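import Cfsg.Agent.S1489
import Cfsg.Agent.CharDeep.CliffordCorr
import Cfsg.Agent.CharDeep.PowerDegrees
import Cfsg.Agent.H670.PSolv

/-!
# Clifford theory for S4844, PS-9: a large degree above a character of an intermediate group
-/

set_option autoImplicit false

namespace Cfsg.Agent.H52.PSq

open Cfsg Subgroup
open Cfsg.Agent.Characters.Core Cfsg.Agent.Characters.Clifford
open Cfsg.Agent.CharDeep.CliffordCorr Cfsg.Agent.Blocks.Knorr

universe u

/-- Lying over is transitive. -/
theorem over_trans {X : Type u} [Group X] [Finite X] {W K : Subgroup X} [Fintype W] [Fintype K] (hWK : W ≤ K)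
    {ψ : X → ℂ} (hψ : IsCharacter X ψ) {δ : K → ℂ} (hδ : IsIrrCharacter K δ) {θ : W → ℂ}
    (hθ : IsIrrCharacter W θ) (h : classInner (fun k : K => ψ k) δ ≠ 0)
    (h2 : classInner (fun w : W => δ ⟨(w : X), hWK w.2⟩) θ ≠ 0) :
    classInner (fun w : W => ψ w) θ ≠ 0 := by
  classical
  have := finite_irr (G := K)
  have := Fintype.ofFinite (IrrCharacter K)
  obtain ⟨c, hc, hc'⟩ := exists_nat_coeffs (isCharacter_restrict K hψ)
  choose b hb using fun η : IrrCharacter K =>
    classInner_isNat (isCharacter_comp (Subgroup.inclusion hWK) (isIrr_isCharacter η.2))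
      (isIrr_isCharacter hθ)
  have h1 : (fun w : W => ψ w) = ∑ η : IrrCharacter K,
      (c η : ℂ) • ((η : K → ℂ) ∘ (Subgroup.inclusion hWK)) := by
    funext w
    have h3 := congrFun hc ⟨(w : X), hWK w.2⟩
    simp only [Finset.sum_apply, Pi.smul_apply, smul_eq_mul] at h3 ⊢
    exact h3
  rw [h1, classInner_sum_left]
  simp_rw [classInner_smul_left, hb]
  intro h0
  have h4 : ∑ η : IrrCharacter K, c η * b η = 0 := by exact_mod_cast h0
  have h5 := (Finset.sum_eq_zero_iff.1 h4) ⟨δ, hδ⟩ (Finset.mem_univ _)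
  rcases Nat.mul_eq_zero.1 h5 with h6 | h6
  · apply h
    rw [hc' ⟨δ, hδ⟩, h6, Nat.cast_zero]
  · apply h2
    have h7 := hb ⟨δ, hδ⟩
    rw [h6, Nat.cast_zero] at h7
    exact h7

/-- The key lemma: `θ` an irreducible character of `V ⊴ G` with inertia group `I`, `δ` an irreducible character
of a normal subgroup `K` of `I` whose restriction to `V` is a multiple of `θ`. Then `G` has an irreducible
character of degree divisible by `|G : I| δ(1)`. -/
theorem CL {G : Type u} [Group G] [Finite G] (V : Subgroup G) [hV : V.Normal] {θ : V → ℂ}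
    (hθ : IsIrrCharacter V θ) {I K : Subgroup G}
    (hI : ∀ g : G, g ∈ I ↔ ∀ n : V, θ ⟨g * n * g⁻¹, hV.conj_mem (n : G) n.2 g⟩ = θ n)
    (hVK : V ≤ K) (hKI : K ≤ I) (hKn : ∀ g ∈ I, ∀ k ∈ K, g * k * g⁻¹ ∈ K) {δ : K → ℂ}
    (hδ : IsIrrCharacter K δ) {m : ℂ} (hm : m ≠ 0)
    (hres : ∀ v : V, δ ⟨(v : G), hVK v.2⟩ = m * θ v) :
    ∃ χ : G → ℂ, IsIrrCharacter G χ ∧ I.index * charDegree δ ∣ charDegree χ := by
  classical
  have := Fintype.ofFinite G
  have := Fintype.ofFinite I
  have : (K.subgroupOf I).Normal := by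
    constructor
    intro k hk g
    exact hKn g g.2 k hk
  have := Fintype.ofFinite (K.subgroupOf I)
  have := Fintype.ofFinite (V.subgroupOf I)
  let e : K.subgroupOf I ≃* K := Subgroup.subgroupOfEquivOfLe hKI
  have hδ' : IsIrrCharacter (K.subgroupOf I) (δ ∘ e) :=
    isIrr_comp (e : K.subgroupOf I →* K) e.surjective hδ
  obtain ⟨ψ, hψ, hψδ⟩ := CharDeep.PowerDegrees.exists_irr_over (K.subgroupOf I) hδ'
  have hdd := H670.PSing.degree_dvd_of_over (K.subgroupOf I) hδ' hψ hψδ
  have hd1 : charDegree (δ ∘ e) = charDegree δ := by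
    apply H670.PSing.charDegree_eq_of
    show δ (e 1) = _
    rw [map_one, charDegree_eq hδ]
  rw [hd1] at hdd
  -- `ψ` lies over `θ`
  have hVI : V ≤ I := hVK.trans hKI
  let f : V.subgroupOf I ≃* V := Subgroup.subgroupOfEquivOfLe hVI
  have hθ' : IsIrrCharacter (V.subgroupOf I) (θ ∘ f) :=
    isIrr_comp (f : V.subgroupOf I →* V) f.surjective hθ
  have hle : V.subgroupOf I ≤ K.subgroupOf I := fun x hx => hVK hx
  have h1 : classInner (fun w : V.subgroupOf I => (δ ∘ e) ⟨(w : I), hle w.2⟩) (θ ∘ f) ≠ 0 := by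
    have h2 : (fun w : V.subgroupOf I => (δ ∘ e) ⟨(w : I), hle w.2⟩) = m • (θ ∘ f) := by
      funext w
      exact hres (f w)
    rw [h2, classInner_smul_left, classInner_irr_self hθ', mul_one]
    exact hm
  have h2 := over_trans hle (isIrr_isCharacter hψ) hδ' hθ' hψδ h1
  have h3 : classInner (indFun (V.subgroupOf I) (θ ∘ f)) ψ ≠ 0 := by
    rw [CharactersDeep.NormalInd.classInner_indFun _ _ _ (isIrr_isClassFunction hψ),
      ← classInner_conj_symm]
    intro h0
    apply h2
    simpa using h0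
  obtain ⟨h4, -⟩ := S1489.result V I θ hθ hI hVI ψ ψ hψ hψ h3 h3
  refine ⟨_, h4, ?_⟩
  have h5 : charDegree (indFun I ψ) = I.index * charDegree ψ := by
    apply H670.PSing.charDegree_eq_of
    rw [CharactersDeep.NormalInd.indFun_one, charDegree_eq hψ, Nat.cast_mul]
  rw [h5]
  exact Nat.mul_dvd_mul_left _ hdd

end Cfsg.Agent.H52.PSq
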