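import Cfsg.Agent.H52.PSq.Deg
import Cfsg.Agent.H395.Jordan
import Cfsg.Agent.Characters.GaloisIrr

/-!
# Existence of good characters (S4844, PS-9)
-/

set_option autoImplicit false

namespace Cfsg.Agent.H52.PSq

open Cfsg Subgroup Cfsg.Agent.H803.S74
open Cfsg.Agent.Characters.Core Cfsg.Agent.Blocks.Knorr
open Cfsg.Agent.H696.PSq (Hyp FactIM)

universe u

/-- A `p`-automorphism of a `p'`-group fixing all conjugacy classes is trivial. -/
theorem eq_one_of_classes {T : Type u} [Group T] [Finite T] {p : ℕ} [hp : Fact p.Prime] (hpT : ¬ p ∣ Nat.card T)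
    (α : MulAut T) {k : ℕ} (hα : α ^ p ^ k = 1) (hcl : ∀ t, IsConj t (α t)) : α = 1 := by
  classical
  let K : Subgroup (MulAut T) :=
    { carrier := {β | ∀ t, IsConj t (β t)}
      one_mem' := fun t => IsConj.refl t
      mul_mem' := fun {a b} ha hb t => (hb t).trans (ha (b t))
      inv_mem' := fun {a} ha t => by
        have h1 := ha (a⁻¹ t)
        have h2 : a (a⁻¹ t) = t := MulAut.apply_inv_self _ a t
        rw [h2] at h1
        exact h1.symm }
  have hK : zpowers α ≤ K := by
    rw [zpowers_le]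
    exact hcl
  let H : Subgroup T :=
    { carrier := {t | α t = t}
      one_mem' := map_one α
      mul_mem' := fun {a b} ha hb => by
        change α (a * b) = a * b
        rw [map_mul, show α a = a from ha, show α b = b from hb]
      inv_mem' := fun {a} ha => by
        change α a⁻¹ = a⁻¹
        rw [map_inv, show α a = a from ha] }
  have hH : H = ⊤ := by
    by_contra hne
    obtain ⟨x, hx⟩ := H395.Jordan.exists_not_conj_mem hne
    let Ω : Type u := {y : T // IsConj x y}
    let _ : MulAction (zpowers α) Ω :=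
      { smul := fun β y => ⟨(β : MulAut T) y, y.2.trans (hK β.2 y)⟩
        one_smul := fun y => Subtype.ext rfl
        mul_smul := fun β γ y => Subtype.ext rfl }
    have hsm : ∀ (β : zpowers α) (y : Ω), ((β • y : Ω) : T) = (β : MulAut T) y := fun _ _ => rfl
    have hcard : Nat.card Ω ∣ Nat.card T := by
      have h1 : Nat.card Ω = Nat.card (MulAction.orbit (ConjAct T) x) := by
        refine Nat.card_congr (Equiv.subtypeEquivRight fun y => ?_)
        rw [ConjAct.mem_orbit_conjAct]
        exact isConj_comm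
      rw [h1]
      have h2 := MulAction.index_stabilizer (ConjAct T) x
      change (MulAction.stabilizer (ConjAct T) x).index = Nat.card (MulAction.orbit (ConjAct T) x) at h2
      rw [← h2]
      have h3 : Nat.card (ConjAct T) = Nat.card T := Nat.card_congr ConjAct.ofConjAct.toEquiv
      rw [← h3]
      exact Subgroup.index_dvd_card _
    have hpG : IsPGroup p (zpowers α) := by
      intro β
      refine ⟨k, ?_⟩
      obtain ⟨β, n, rfl⟩ := β
      apply Subtype.ext
      change (α ^ n) ^ p ^ k = 1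
      rw [← zpow_natCast, ← zpow_mul, mul_comm, zpow_mul, zpow_natCast, hα, one_zpow]
    have : Finite Ω := inferInstance
    obtain ⟨y, hy⟩ := hpG.nonempty_fixed_point_of_prime_not_dvd_card Ω (fun h => hpT (h.trans hcard))
    have h1 : α (y : T) = y := by
      have h2 := hy ⟨α, mem_zpowers α⟩
      have h3 := congrArg (fun z : Ω => (z : T)) h2
      exact h3
    obtain ⟨c, hc⟩ := isConj_iff.1 y.2
    apply hx c⁻¹
    rw [inv_inv, hc]
    exact h1
  ext t
  have h1 : t ∈ H := by rw [hH]; trivial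
  exact h1

variable {p : ℕ} [hp : Fact p.Prime] {G : Type u} [Group G] [Finite G] {V U : Subgroup G} [hV : V.Normal]
  [hUn : U.Normal] {m : ℕ} {T : Fin m → Subgroup G} {e : V ≃* ∀ i, T i} {σ : G →* Equiv.Perm (Fin m)}

/-- conjugation by an element fixing the factor -/
def cj {T : Subgroup G} {g : G} (hg : g ∈ normalizer (T : Set G)) : MulAut T :=
  T.normalizerMonoidHom ⟨g, hg⟩

omit [Finite G] in
theorem cj_apply {T : Subgroup G} {g : G} (hg : g ∈ normalizer (T : Set G)) (t : T) :
    (cj hg t : G) = g * t * g⁻¹ := rfl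

omit [Finite G] hV in
theorem mem_normalizer_iff_sigma (h : Sys V T e)
    (hσ : ∀ g i, T (σ g i) = (T i).map (MulAut.conj g).toMonoidHom) {g : G} {i : Fin m} :
    g ∈ normalizer (T i : Set G) ↔ σ g i = i := by
  constructor
  · intro h1
    rw [h.sigma_eq_iff hσ]
    intro x hx
    exact (mem_normalizer_iff.1 h1 x).1 hx
  · intro h1
    rw [mem_normalizer_iff]
    intro x
    constructor
    · intro hx
      exact conj_mem_of_sigma hσ h1 ⟨x, hx⟩
    · intro hx
      have h2 : σ g⁻¹ i = i := by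
        rw [map_inv, Equiv.Perm.inv_eq_iff_eq]
        exact h1.symm
      have h3 := conj_mem_of_sigma hσ h2 ⟨_, hx⟩
      have h4 : g⁻¹ * (g * x * g⁻¹) * g⁻¹⁻¹ = x := by group
      rwa [h4] at h3

omit [Finite G] hV in
/-- an element of `V` centralizing all the factors is trivial -/
theorem inf_centralizer_eq_bot (h : Sys V T e) : V ⊓ centralizer (V : Set G) = ⊥ := by
  rw [eq_bot_iff]
  rintro x ⟨h1, h2⟩
  rw [mem_bot]
  have h3 : e ⟨x, h1⟩ = 1 := by
    funext i
    rw [Pi.one_apply, h.one]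
    intro t ht
    exact ((mem_centralizer_iff.1 h2) t (h.le i ht)).symm
  have h4 : (⟨x, h1⟩ : V) = 1 := by
    apply e.injective
    rw [h3, map_one]
  exact congrArg Subtype.val h4

omit [Finite G] in
/-- an element centralizing all the factors centralizes `V` -/
theorem mem_centralizer_of_forall (h : Sys V T e)
    (hσ : ∀ g i, T (σ g i) = (T i).map (MulAut.conj g).toMonoidHom) {x : G}
    (hx : ∀ i, x ∈ centralizer (T i : Set G)) : x ∈ centralizer (V : Set G) := by
  rw [mem_centralizer_iff]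
  intro v hv
  have h1 : e ⟨x * v * x⁻¹, hV.conj_mem v hv x⟩ = e ⟨v, hv⟩ := by
    funext i
    apply Subtype.ext
    have h2 := coord_self h hσ (sigma_of_centralizer h hσ (hx i)) ⟨v, hv⟩
    rw [h2, ← (mem_centralizer_iff.1 (hx i)) _ (e ⟨v, hv⟩ i).2, mul_inv_cancel_right]
  have h2 := congrArg Subtype.val (e.injective h1)
  change x * v * x⁻¹ = v at h2
  exact (mul_inv_eq_iff_eq_mul.1 h2).symm

/-- **Existence of good characters.** -/
theorem Wk.exists_good (w : Wk p V U) (h : Sys V T e)
    (hσ : ∀ g i, T (σ g i) = (T i).map (MulAut.conj g).toMonoidHom) (hcore : pCore p G = ⊥) (i : Fin m) :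
    ∃ θ : T i → ℂ, Good e U i θ := by
  classical
  by_contra hcon
  have hU : ∀ θ : T i → ℂ, IsIrrCharacter (T i) θ → (∃ t, θ t ≠ θ 1) → U ≤ inert V (infl e i θ) := by
    intro θ h1 h2
    by_contra h3
    exact hcon ⟨θ, h1, h2, h3⟩
  have hnt : Nontrivial (T i) := (h.simple i).toNontrivial
  obtain ⟨t0, ht0⟩ := exists_ne (1 : T i)
  obtain ⟨θ0, hθ0, hθ0'⟩ : ∃ θ : T i → ℂ, IsIrrCharacter (T i) θ ∧ ∃ t, θ t ≠ θ 1 := by
    by_contra hc
    push Not at hc
    apply ht0
    have h1 : IsConj t0 1 := Characters.GaloisIrr.isConj_of_forall_irr fun χ hχ => hc χ hχ t0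
    exact isConj_one_left.1 h1
  have hs : ∀ u ∈ U, σ u i = i := fun u hu => sigma_of_inert h hσ hθ0' (hU θ0 hθ0 hθ0' hu)
  have hpT : ¬ p ∣ Nat.card (T i) := fun hd => w.cop (hd.trans (Subgroup.card_dvd_of_le (h.le i)))
  -- `p`-elements of `U` centralize the factor
  have h1 : ∀ u ∈ U, (∃ k, u ^ p ^ k = 1) → u ∈ centralizer (T i : Set G) := by
    rintro u hu ⟨k, hk⟩
    have hn : u ∈ normalizer (T i : Set G) := (mem_normalizer_iff_sigma h hσ).2 (hs u hu)
    have h2 : (cj hn) ^ p ^ k = 1 := by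
      have h3 : (⟨u, hn⟩ : normalizer (T i : Set G)) ^ p ^ k = 1 := Subtype.ext hk
      unfold cj
      rw [← map_pow, h3, map_one]
    have h3 : cj hn = 1 := by
      refine eq_one_of_classes hpT _ h2 fun t => ?_
      refine Characters.GaloisIrr.isConj_of_forall_irr fun χ hχ => ?_
      by_cases hc : ∃ t, χ t ≠ χ 1
      · have h4 := (mem_inert_infl h hσ (hs u hu)).1 (hU χ hχ hc hu) t
        exact h4.symm
      · push Not at hc
        rw [hc t, hc (cj hn t)]
    rw [mem_centralizer_iff]
    intro t ht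
    have h4 := congrArg (fun β : MulAut (T i) => ((β ⟨t, ht⟩ : T i) : G)) h3
    change u * t * u⁻¹ = t at h4
    exact (mul_inv_eq_iff_eq_mul.1 h4).symm
  -- they centralize all the factors
  have h2 : ∀ u ∈ U, (∃ k, u ^ p ^ k = 1) → u ∈ centralizer (V : Set G) := by
    rintro u hu ⟨k, hk⟩
    refine mem_centralizer_of_forall h hσ fun j => ?_
    obtain ⟨g, hg⟩ := h.tr i j
    have h3 : g⁻¹ * u * g⁻¹⁻¹ ∈ centralizer (T i : Set G) := by
      refine h1 _ (hUn.conj_mem u hu g⁻¹) ⟨k, ?_⟩
      rw [conj_pow, hk]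
      simp
    rw [mem_centralizer_iff]
    intro t ht
    rw [hg] at ht
    obtain ⟨s, hs, rfl⟩ := ht
    change g * s * g⁻¹ * u = u * (g * s * g⁻¹)
    have h4 := mem_centralizer_iff.1 h3 s hs
    rw [inv_inv] at h4
    calc g * s * g⁻¹ * u = g * (s * (g⁻¹ * u * g)) * g⁻¹ := by group
      _ = g * (g⁻¹ * u * g * s) * g⁻¹ := by rw [h4]
      _ = _ := by group
  -- the centralizer of `V` in `U` is a normal subgroup of order `p`
  set Q : Subgroup G := U ⊓ centralizer (V : Set G) with hQ
  have hQn : Q.Normal := by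
    have : (centralizer (V : Set G)).Normal := Subgroup.normal_centralizer
    infer_instance
  obtain ⟨u, hu⟩ := exists_prime_orderOf_dvd_card' (G := U) p (by rw [w.cardU]; exact dvd_mul_right _ _)
  have hu' : orderOf (u : G) = p := by rw [Subgroup.orderOf_coe, hu]
  have huQ : (u : G) ∈ Q := ⟨u.2, h2 u u.2 ⟨1, by rw [pow_one, ← hu', pow_orderOf_eq_one]⟩⟩
  have hQc : Nat.card Q ∣ p := by
    have h3 := card_sup_mul (K := V) Q
    have h4 : V ⊓ Q = ⊥ := by
      rw [eq_bot_iff, ← inf_centralizer_eq_bot h]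
      exact inf_le_inf le_rfl inf_le_right
    rw [h4, Subgroup.card_bot, mul_one] at h3
    have h5 : Nat.card (V ⊔ Q : Subgroup G) ∣ Nat.card U :=
      Subgroup.card_dvd_of_le (sup_le w.VU inf_le_left)
    rw [h3, w.cardU, mul_comm] at h5
    exact (Nat.mul_dvd_mul_iff_right Nat.card_pos).1 h5
  have hQp : IsPGroup p Q := by
    rcases (Nat.dvd_prime hp.out).1 hQc with h3 | h3
    · exact IsPGroup.of_card (n := 0) (by rw [h3, pow_zero])
    · exact IsPGroup.of_card (n := 1) (by rw [h3, pow_one])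
  have h3 := Lib.Cores.le_pCore hQn hQp huQ
  rw [hcore, mem_bot] at h3
  rw [h3, orderOf_one] at hu'
  exact hp.out.one_lt.ne hu'

end Cfsg.Agent.H52.PSq
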