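import Cfsg.Agent.H52.PSq.Cl
import Cfsg.Agent.H803.S74.Sys
import Cfsg.Agent.H713.Reduce
import Cfsg.Agent.S0188

/-!
# Inertia groups of characters of a nonabelian minimal normal subgroup coming from one or two factors
(S4844, PS-9)
-/

set_option autoImplicit false

namespace Cfsg.Agent.H52.PSq

open Cfsg Subgroup Cfsg.Agent.H803.S74
open Cfsg.Agent.Characters.Core

universe u

/-! ### orders -/

section cards

variable {G : Type u} [Group G]

theorem card_mul_relIndex {H K : Subgroup G} (h : H ≤ K) :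
    Nat.card H * H.relIndex K = Nat.card K := by
  rw [Subgroup.relIndex, ← Nat.card_congr (Subgroup.subgroupOfEquivOfLe h).toEquiv]
  exact Subgroup.card_mul_index _

/-- `|K H| |K ∩ H| = |K| |H|` -/
theorem card_sup_mul {K : Subgroup G} [K.Normal] (H : Subgroup G) :
    Nat.card (K ⊔ H : Subgroup G) * Nat.card (K ⊓ H : Subgroup G) = Nat.card K * Nat.card H := by
  have h2 : Nat.card K * K.relIndex H = Nat.card (K ⊔ H : Subgroup G) := by
    rw [← relIndex_sup_left H K]
    exact card_mul_relIndex le_sup_left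
  have h3 : Nat.card (K ⊓ H : Subgroup G) * K.relIndex H = Nat.card H := by
    rw [← Subgroup.inf_relIndex_right K H]
    exact card_mul_relIndex inf_le_right
  calc _ = Nat.card (K ⊔ H : Subgroup G) * Nat.card (K ⊓ H : Subgroup G) := rfl
    _ = Nat.card K * (Nat.card (K ⊓ H : Subgroup G) * K.relIndex H) := by rw [← h2]; ring
    _ = _ := by rw [h3]

/-- A subgroup containing `V` but not `U`, `|U : V| = p`, has index divisible by `p`. -/
theorem dvd_index [Finite G] {p : ℕ} (hp : p.Prime) {V U I : Subgroup G} [U.Normal] (hVU : V ≤ U)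
    (hc : Nat.card U = p * Nat.card V) (hVI : V ≤ I) (hUI : ¬ U ≤ I) : p ∣ I.index := by
  have hV0 : 0 < Nat.card V := Nat.card_pos
  have hk : Nat.card (U ⊓ I : Subgroup G) * I.relIndex U = Nat.card U := by
    have h1 := card_mul_relIndex (inf_le_left : U ⊓ I ≤ U)
    rwa [inf_comm, Subgroup.inf_relIndex_right, inf_comm] at h1
  obtain ⟨k, hk1⟩ : Nat.card V ∣ Nat.card (U ⊓ I : Subgroup G) := Subgroup.card_dvd_of_le (le_inf hVU hVI)
  have h2 : k * I.relIndex U = p := by
    rw [hk1, hc] at hk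
    have h3 : Nat.card V * (k * I.relIndex U) = Nat.card V * p := by
      rw [← mul_assoc, hk, mul_comm]
    exact Nat.eq_of_mul_eq_mul_left hV0 h3
  have h4 : I.relIndex U ∣ p := ⟨k, by rw [mul_comm, h2]⟩
  have h5 : I.relIndex U = p := by
    rcases (Nat.dvd_prime hp).1 h4 with h5 | h5
    · exact absurd (Subgroup.relIndex_eq_one.1 h5) hUI
    · exact h5
  -- `|U ⊔ I| = p |I|`
  have h6 := card_sup_mul (K := U) I
  have h7 : Nat.card (U ⊔ I : Subgroup G) = p * Nat.card I := by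
    have h8 : 0 < Nat.card (U ⊓ I : Subgroup G) := Nat.card_pos
    rw [h5] at hk
    rw [← hk] at h6
    have h9 : Nat.card (U ⊔ I : Subgroup G) * Nat.card (U ⊓ I : Subgroup G) =
        (p * Nat.card I) * Nat.card (U ⊓ I : Subgroup G) := by rw [h6]; ring
    exact Nat.eq_of_mul_eq_mul_right h8 h9
  have h8 := card_mul_relIndex (le_sup_right : I ≤ U ⊔ I)
  rw [h7] at h8
  have h9 : I.relIndex (U ⊔ I) = p := by
    have h10 : 0 < Nat.card I := Nat.card_pos
    exact Nat.eq_of_mul_eq_mul_left h10 (by rw [h8]; ring)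
  rw [← h9]
  exact Subgroup.relIndex_dvd_index_of_le le_sup_right

end cards

/-! ### inertia groups -/

section inert

variable {G : Type u} [Group G]

/-- The inertia group of a function on a normal subgroup. -/
def inert (V : Subgroup G) [hV : V.Normal] (f : V → ℂ) : Subgroup G where
  carrier := {g | ∀ n : V, f ⟨g * n * g⁻¹, hV.conj_mem (n : G) n.2 g⟩ = f n}
  one_mem' := by
    intro n
    congr 1
    apply Subtype.ext
    simp
  mul_mem' := by
    intro a b ha hb n
    have h1 := ha ⟨b * n * b⁻¹, hV.conj_mem (n : G) n.2 b⟩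
    rw [hb n] at h1
    rw [← h1]
    congr 1
    apply Subtype.ext
    simp [mul_assoc]
  inv_mem' := by
    intro a ha n
    have h1 := ha ⟨a⁻¹ * n * a⁻¹⁻¹, hV.conj_mem (n : G) n.2 a⁻¹⟩
    rw [← h1]
    congr 1
    apply Subtype.ext
    simp [mul_assoc]

variable {V : Subgroup G} [hV : V.Normal]

theorem mem_inert {f : V → ℂ} {g : G} :
    g ∈ inert V f ↔ ∀ n : V, f ⟨g * n * g⁻¹, hV.conj_mem (n : G) n.2 g⟩ = f n := Iff.rfl

theorem le_inert {f : V → ℂ} (hf : IsClassFunction V f) : V ≤ inert V f := by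
  intro g hg n
  exact hf n ⟨g, hg⟩

end inert

/-! ### characters coming from the factors -/

section sys

variable {G : Type u} [Group G] {V : Subgroup G} [hV : V.Normal] {m : ℕ} {T : Fin m → Subgroup G}
  {e : V ≃* ∀ i, T i}

/-- the function on `V` which depends on one factor -/
def infl (e : V ≃* ∀ i, T i) (i : Fin m) (θ : T i → ℂ) : V → ℂ := fun n => θ (e n i)

/-- the function on `V` which depends on two factors -/
def pair (e : V ≃* ∀ i, T i) (i j : Fin m) (θ : T i → ℂ) (θ' : T j → ℂ) : V → ℂ :=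
  fun n => θ (e n i) * θ' (e n j)

omit hV in
theorem isIrr_infl (i : Fin m) {θ : T i → ℂ} (hθ : IsIrrCharacter (T i) θ) : IsIrrCharacter V (infl e i θ) := by
  classical
  have h1 : Function.Surjective ((Pi.evalMonoidHom (fun i => T i) i).comp (e : V →* ∀ i, T i)) := by
    intro t
    exact ⟨e.symm (Pi.mulSingle i t), by simp⟩
  exact isIrr_comp _ h1 hθ

omit hV in
theorem isIrr_pair [Finite G] {i j : Fin m} (hij : i ≠ j) {θ : T i → ℂ} (hθ : IsIrrCharacter (T i) θ)
    {θ' : T j → ℂ} (hθ' : IsIrrCharacter (T j) θ') : IsIrrCharacter V (pair e i j θ θ') := by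
  classical
  let f : V →* T i × T j :=
    ((Pi.evalMonoidHom (fun i => T i) i).prod (Pi.evalMonoidHom (fun i => T i) j)).comp (e : V →* ∀ i, T i)
  have h1 : Function.Surjective f := by
    rintro ⟨s, t⟩
    refine ⟨e.symm (Pi.mulSingle i s * Pi.mulSingle j t), ?_⟩
    apply Prod.ext
    · change e (e.symm (Pi.mulSingle i s * Pi.mulSingle j t)) i = s
      rw [MulEquiv.apply_symm_apply, Pi.mul_apply, Pi.mulSingle_eq_same, Pi.mulSingle_eq_of_ne hij, mul_one]
    · change e (e.symm (Pi.mulSingle i s * Pi.mulSingle j t)) j = t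
      rw [MulEquiv.apply_symm_apply, Pi.mul_apply, Pi.mulSingle_eq_same, Pi.mulSingle_eq_of_ne hij.symm, one_mul]
  exact isIrr_comp f h1 (S0188.isIrr_outer hθ hθ')

variable (h : Sys V T e)
include h

omit hV in
theorem e_single (i : Fin m) (t : T i) : e ⟨t, h.le i t.2⟩ = Pi.mulSingle i t := by
  apply e.symm.injective
  rw [MulEquiv.symm_apply_apply]
  exact Subtype.ext (h.single i t).symm

variable {σ : G →* Equiv.Perm (Fin m)} (hσ : ∀ g i, T (σ g i) = (T i).map (MulAut.conj g).toMonoidHom)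
include hσ

theorem coord (g : G) (i : Fin m) (n : V) :
    ((e ⟨g * n * g⁻¹, hV.conj_mem (n : G) n.2 g⟩ (σ g i) : T (σ g i)) : G) = g * (e n i : G) * g⁻¹ :=
  H713.coord_conj e h.le h.single h.one g i (σ g i) (hσ g i) n

/-- the coordinates of a conjugate of an element of a factor -/
theorem coord_single (g : G) (i : Fin m) (t : T i) (j : Fin m) (hj : j ≠ σ g i) :
    e ⟨g * t * g⁻¹, hV.conj_mem (t : G) (h.le i t.2) g⟩ j = 1 := by
  classical
  have h1 := e_single h (σ g i) ⟨g * t * g⁻¹, Sys.mem_sigma hσ t.2⟩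
  change e ⟨g * t * g⁻¹, _⟩ = _ at h1
  rw [h1, Pi.mulSingle_eq_of_ne hj]

theorem coord_self {g : G} {i : Fin m} (hg : σ g i = i) (n : V) :
    ((e ⟨g * n * g⁻¹, hV.conj_mem (n : G) n.2 g⟩ i : T i) : G) = g * (e n i : G) * g⁻¹ := by
  have h1 := coord h hσ g i n
  have h2 : ∀ j, j = i → ((e ⟨g * n * g⁻¹, hV.conj_mem (n : G) n.2 g⟩ j : T j) : G) =
      ((e ⟨g * n * g⁻¹, hV.conj_mem (n : G) n.2 g⟩ i : T i) : G) := by
    rintro _ rfl; rfl
  rw [← h2 _ hg]
  exact h1

/-- (A) an element fixing a nontrivial character of a factor fixes the factor -/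
theorem sigma_of_inert {i : Fin m} {θ : T i → ℂ} (ht : ∃ t, θ t ≠ θ 1) {g : G}
    (hg : g ∈ inert V (infl e i θ)) : σ g i = i := by
  classical
  by_contra hne
  obtain ⟨t, ht⟩ := ht
  apply ht
  have h1 := hg ⟨t, h.le i t.2⟩
  have h2 : e ⟨g * t * g⁻¹, hV.conj_mem (t : G) (h.le i t.2) g⟩ i = 1 := coord_single h hσ g i t i (Ne.symm hne)
  have h3 : infl e i θ ⟨g * t * g⁻¹, hV.conj_mem (t : G) (h.le i t.2) g⟩ = θ 1 := by
    unfold infl
    rw [h2]
  have h4 : infl e i θ ⟨t, h.le i t.2⟩ = θ t := by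
    unfold infl
    rw [e_single h, Pi.mulSingle_eq_same]
  rw [← h3, ← h4]
  exact h1.symm

omit hV h in
theorem conj_mem_of_sigma {g : G} {i : Fin m} (hg : σ g i = i) (t : T i) : g * t * g⁻¹ ∈ T i := by
  have h1 := Sys.mem_sigma hσ t.2 (g := g)
  rwa [hg] at h1

theorem mem_inert_infl {i : Fin m} {θ : T i → ℂ} {g : G} (hg : σ g i = i) :
    g ∈ inert V (infl e i θ) ↔ ∀ t : T i, θ ⟨g * t * g⁻¹, conj_mem_of_sigma hσ hg t⟩ = θ t := by
  classical
  have key : ∀ n : V, e ⟨g * n * g⁻¹, hV.conj_mem (n : G) n.2 g⟩ i =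
      ⟨g * (e n i : G) * g⁻¹, conj_mem_of_sigma hσ hg (e n i)⟩ :=
    fun n => Subtype.ext (coord_self h hσ hg n)
  constructor
  · intro h1 t
    have h2 := h1 ⟨t, h.le i t.2⟩
    unfold infl at h2
    rw [key] at h2
    have h3 : e ⟨t, h.le i t.2⟩ i = t := by rw [e_single h, Pi.mulSingle_eq_same]
    rw [h3] at h2
    simpa only [h3] using h2
  · intro h1 n
    unfold infl
    rw [key]
    exact h1 (e n i)

omit hV in
theorem sigma_of_centralizer {i : Fin m} {c : G} (hc : c ∈ centralizer (T i : Set G)) : σ c i = i := by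
  rw [h.sigma_eq_iff hσ]
  intro x hx
  rw [← mem_centralizer_iff.1 hc x hx, mul_inv_cancel_right]
  exact hx

/-- (B) -/
theorem centralizer_le_inert {i : Fin m} (θ : T i → ℂ) :
    centralizer (T i : Set G) ≤ inert V (infl e i θ) := by
  intro c hc
  rw [mem_inert_infl h hσ (sigma_of_centralizer h hσ hc)]
  intro t
  congr 1
  apply Subtype.ext
  change c * (t : G) * c⁻¹ = t
  rw [← mem_centralizer_iff.1 hc t t.2, mul_inv_cancel_right]

/-- an element of the inertia group of a pair character preserves the pair -/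
theorem sigma_pair {i j : Fin m} (hij : i ≠ j) {θ : T i → ℂ} (ht : ∃ t, θ t ≠ θ 1) {θ' : T j → ℂ}
    (h0 : θ' 1 ≠ 0) {g : G} (hg : g ∈ inert V (pair e i j θ θ')) : σ g i = i ∨ σ g i = j := by
  classical
  by_contra hne
  push Not at hne
  obtain ⟨t, ht⟩ := ht
  apply ht
  have h1 := hg ⟨t, h.le i t.2⟩
  have h2 : e ⟨g * t * g⁻¹, hV.conj_mem (t : G) (h.le i t.2) g⟩ i = 1 :=
    coord_single h hσ g i t i (Ne.symm hne.1)
  have h2' : e ⟨g * t * g⁻¹, hV.conj_mem (t : G) (h.le i t.2) g⟩ j = 1 :=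
    coord_single h hσ g i t j (Ne.symm hne.2)
  have h3 : pair e i j θ θ' ⟨g * t * g⁻¹, hV.conj_mem (t : G) (h.le i t.2) g⟩ = θ 1 * θ' 1 := by
    unfold pair
    rw [h2, h2']
  have h4 : pair e i j θ θ' ⟨t, h.le i t.2⟩ = θ t * θ' 1 := by
    unfold pair
    rw [e_single h, Pi.mulSingle_eq_same, Pi.mulSingle_eq_of_ne hij.symm]
  have h5 : θ 1 * θ' 1 = θ t * θ' 1 := by
    rw [← h3, ← h4]
    exact h1
  exact (mul_right_cancel₀ h0 h5).symm

theorem pair_inert_infl {i j : Fin m} (hij : i ≠ j) {θ : T i → ℂ} {θ' : T j → ℂ}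
    (h0 : θ' 1 ≠ 0) {g : G} (hg : g ∈ inert V (pair e i j θ θ')) (hi : σ g i = i) :
    g ∈ inert V (infl e i θ) := by
  classical
  rw [mem_inert_infl h hσ hi]
  intro t
  have h1 := hg ⟨t, h.le i t.2⟩
  have h2 : e ⟨g * t * g⁻¹, hV.conj_mem (t : G) (h.le i t.2) g⟩ j = 1 :=
    coord_single h hσ g i t j (by rw [hi]; exact hij.symm)
  have h3 : e ⟨t, h.le i t.2⟩ i = t := by rw [e_single h, Pi.mulSingle_eq_same]
  have h4 : e ⟨g * t * g⁻¹, hV.conj_mem (t : G) (h.le i t.2) g⟩ i =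
      ⟨g * t * g⁻¹, conj_mem_of_sigma hσ hi t⟩ := by
    apply Subtype.ext
    have h5 := coord_self h hσ hi ⟨t, h.le i t.2⟩
    rw [h3] at h5
    exact h5
  have h5 : pair e i j θ θ' ⟨g * t * g⁻¹, hV.conj_mem (t : G) (h.le i t.2) g⟩ =
      θ ⟨g * t * g⁻¹, conj_mem_of_sigma hσ hi t⟩ * θ' 1 := by
    unfold pair
    rw [h2, h4]
  have h6 : pair e i j θ θ' ⟨t, h.le i t.2⟩ = θ t * θ' 1 := by
    unfold pair
    rw [e_single h, Pi.mulSingle_eq_same, Pi.mulSingle_eq_of_ne hij.symm]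
  have h7 : θ ⟨g * t * g⁻¹, conj_mem_of_sigma hσ hi t⟩ * θ' 1 = θ t * θ' 1 := by
    rw [← h5, ← h6]
    exact h1
  exact mul_right_cancel₀ h0 h7

/-- (J) -/
theorem pair_inert_of_odd {i j : Fin m} (hij : i ≠ j) {θ : T i → ℂ} (ht : ∃ t, θ t ≠ θ 1) {θ' : T j → ℂ}
    (ht' : ∃ t, θ' t ≠ θ' 1) (h0 : θ 1 ≠ 0) (h0' : θ' 1 ≠ 0) {g : G}
    (hg : g ∈ inert V (pair e i j θ θ')) {k : ℕ} (hk : Odd k) (hgk : σ (g ^ k) i = i) :
    σ g i = i ∧ g ∈ inert V (infl e i θ) := by
  have h1 : σ g i = i := by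
    rcases sigma_pair h hσ hij ht h0' hg with h1 | h1
    · exact h1
    -- `g` swaps `i` and `j`
    have hg' : g ∈ inert V (pair e j i θ' θ) := by
      intro n
      have h2 := hg n
      unfold pair at h2 ⊢
      rw [mul_comm, h2, mul_comm]
    have h2 : σ g j = i := by
      rcases sigma_pair h hσ hij.symm ht' h0 hg' with h2 | h2
      · exfalso
        apply hij
        have h3 := (σ g).injective (h1.trans h2.symm)
        exact h3
      · exact h2
    exfalso
    have h3 : σ (g ^ 2) i = i := by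
      rw [pow_two, map_mul, Equiv.Perm.mul_apply, h1, h2]
    obtain ⟨l, hl⟩ := hk
    have h4 : σ (g ^ k) i = j := by
      rw [hl, pow_succ, map_mul, Equiv.Perm.mul_apply, h1]
      have h5 : σ (g ^ 2) j = j := by
        rw [pow_two, map_mul, Equiv.Perm.mul_apply, h2, h1]
      have h6 : ∀ l : ℕ, σ (g ^ (2 * l)) j = j := by
        intro l
        rw [pow_mul, map_pow]
        induction l with
        | zero => simp
        | succ l ih => rw [pow_succ, Equiv.Perm.mul_apply, h5, ih]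
      exact h6 l
    exact hij (hgk.symm.trans h4)
  exact ⟨h1, pair_inert_infl h hσ hij h0' hg h1⟩

end sys

end Cfsg.Agent.H52.PSq
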