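import Cfsg.Agent.H52.PSq.NonabRed
import Cfsg.Agent.H771.PSq.Claim
import Cfsg.Agent.H988.CopCyc.Main

/-!
# S4844, PS-9: the nonabelian case
-/

set_option autoImplicit false

namespace Cfsg.Agent.H52.PSq

open Cfsg Subgroup
open Cfsg.Agent.H696.PSq (Hyp FactIM Sit)

universe u

/-- **PS-9.** -/
theorem nonab_case {p : ℕ} [Fact p.Prime] (hp2 : p ≠ 2) (hIM : FactIM.{u} p) {G : Type u} [Group G] [Finite G]
    {V : Subgroup G} (h : Sit p V) (hab : ¬ IsMulCommutative V) : False :=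
  nonab_case_of hp2 hIM
    (fun N _ _ T hT hs hna hp hχ => by
      have := hT
      exact H771.PSq.claim' hIM T hs hna hp hχ)
    (fun _ _ _ _ hK => H988.CopCyc.Main.cc hK) h hab

end Cfsg.Agent.H52.PSq
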