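import Cfsg.Agent.H52.PSq.CaseII

/-!
# S4844, PS-9: the nonabelian case, from the claim PS-9c and the cyclicity of coprime automorphism groups
-/

set_option autoImplicit false

namespace Cfsg.Agent.H52.PSq

open Cfsg Subgroup Cfsg.Agent.H803.S74
open Cfsg.Agent.H696.PSq (Hyp FactIM Sit)
open Cfsg.Agent.H988.CopCyc (CC)

universe u

theorem nonab_case_of {p : ℕ} [Fact p.Prime] (hp2 : p ≠ 2) (hIM : FactIM.{u} p) (hC : FactC.{u} p)
    (hcc : ∀ (K : Type u) [Group K] [Finite K] [IsSimpleGroup K], ¬ IsMulCommutative K → CC K)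
    {G : Type u} [Group G] [Finite G] {V : Subgroup G} (h : Sit p V) (hab : ¬ IsMulCommutative V) : False := by
  classical
  have hVn := h.normal
  obtain ⟨U, hUn, hVU, hUc, hmax⟩ := h.coreV
  have w : Wk p V U := ⟨h.hyp, h.cop, hVU, hUc, h.three⟩
  have hna : ¬ ∀ x ∈ V, ∀ y ∈ V, Commute x y := by
    intro h1
    apply hab
    exact ⟨⟨fun a b => Subtype.ext (h1 a a.2 b b.2)⟩⟩
  obtain ⟨m, T, e, hm, hS⟩ := exists_sys V h.min hna
  obtain ⟨σ, hσ⟩ := hS.exists_sigma
  choose θ hθ using fun i => w.exists_good hS hσ h.core i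
  refine w.fin hp2 hIM hS hm hσ hmax θ hθ fun i => ?_
  by_cases hU : ∀ u ∈ U, σ u i = i
  · have hs := hS.simple i
    refine w.ec_one hS hσ (hcc (T i) ?_) hU (hθ i)
    intro hc
    obtain ⟨a, b, hab⟩ := hS.nab i
    exact hab (hc.is_comm.comm a b)
  · push Not at hU
    exact w.ec_two hC hS hσ hU (hθ i)

end Cfsg.Agent.H52.PSq
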